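import Mathlib
import Cfsg.Agent.H453.Quad
import Cfsg.Agent.S1160

/-!
# Groups preserving an anisotropic quadratic map `s : U → W`, `|U| = |W|²`

* `idem`: self-adjoint idempotents are trivial;
* `commute_of_norm`: a `t`-group (`t` odd) preserving `s` is centralized by each `υ ∈ GL(U)` which
  normalizes it and has order prime to `2 n`, `|W| = 2 ^ n`.
-/

set_option autoImplicit false
set_option linter.unusedSectionVars false

namespace Cfsg.Agent.H453.Quad

open Finset Polynomial

/-- a finite commutative ring without idempotents in which `a ^ (2 ^ N) = a`: an automorphism of order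
prime to `N` is trivial. -/
theorem algHom_eq_id {R : Type*} [CommRing R] [Algebra (ZMod 2) R] [Finite R] [Nontrivial R]
    {N : ℕ} (hN : 0 < N) (hpow : ∀ a : R, a ^ (2 ^ N) = a) (hid : ∀ a : R, a * a = a → a = 0 ∨ a = 1)
    (σ : R →ₐ[ZMod 2] R) {k : ℕ} (hk : k.Coprime N) (hσ : ∀ a, (⇑σ)^[k] a = a) (a : R) : σ a = a := by
  have hq : 2 ≤ 2 ^ N := by
    calc 2 = 2 ^ 1 := (pow_one 2).symm
      _ ≤ 2 ^ N := Nat.pow_le_pow_right (by norm_num) hN
  have hunit : ∀ a : R, a ≠ 0 → a ^ (2 ^ N - 1) = 1 := by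
    intro a ha
    have h1 : a ^ (2 ^ N - 1) * a = a := by
      rw [← pow_succ, Nat.sub_add_cancel (by omega)]; exact hpow a
    have h2 : a ^ (2 ^ N - 1) * a ^ (2 ^ N - 1) = a ^ (2 ^ N - 1) := by
      obtain ⟨m, hm⟩ : ∃ m, 2 ^ N - 1 = m + 1 := ⟨2 ^ N - 2, by omega⟩
      calc a ^ (2 ^ N - 1) * a ^ (2 ^ N - 1) = a ^ (2 ^ N - 1) * a ^ (m + 1) := by rw [← hm]
        _ = (a ^ (2 ^ N - 1) * a) * a ^ m := by rw [pow_succ]; ring
        _ = a * a ^ m := by rw [h1]
        _ = a ^ (m + 1) := by rw [pow_succ]; ring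
        _ = _ := by rw [← hm]
    rcases hid _ h2 with h3 | h3
    · rw [h3, zero_mul] at h1
      exact absurd h1.symm ha
    · exact h3
  have hfield : IsField R :=
    { exists_pair_ne := exists_pair_ne R
      mul_comm := mul_comm
      mul_inv_cancel := by
        intro a ha
        refine ⟨a ^ (2 ^ N - 2), ?_⟩
        rw [← pow_succ']
        have : 2 ^ N - 2 + 1 = 2 ^ N - 1 := by omega
        rw [this]; exact hunit a ha }
  let _ : Field R := hfield.toField
  obtain ⟨i, hi⟩ := (FiniteField.bijective_frobeniusAlgHom_pow (ZMod 2) R).2 σ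
  have h1 : ∀ (m : ℕ) (a : R), (⇑(FiniteField.frobeniusAlgHom (ZMod 2) R ^ m)) a = a ^ (2 ^ m) := by
    intro m
    induction m with
    | zero => intro a; simp
    | succ m ih =>
      intro a
      rw [pow_succ, AlgHom.mul_apply, ih, FiniteField.coe_frobeniusAlgHom, ZMod.card, ← pow_mul]
      congr 1
      rw [pow_succ]; ring
  have h2 : ∀ a : R, σ a = a ^ (2 ^ (i : ℕ)) := fun a => by rw [← hi]; exact h1 i a
  have h3 : ∀ (m : ℕ) (a : R), (⇑σ)^[m] a = a ^ (2 ^ ((i : ℕ) * m)) := by
    intro m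
    induction m with
    | zero => intro a; simp
    | succ m ih =>
      intro a
      rw [Function.iterate_succ_apply', ih, h2, ← pow_mul, ← pow_add]
      congr 2
  have h4 : ∀ (u : ℕ) (a : R), a ^ (2 ^ ((i : ℕ) * k * u)) = a := by
    intro u
    induction u with
    | zero => intro a; simp
    | succ u ih =>
      intro a
      rw [mul_add, pow_add, pow_mul, ih, mul_one, ← h3]
      exact hσ a
  have h5 : ∀ (u : ℕ) (a : R), a ^ (2 ^ (N * u)) = a := by
    intro u
    induction u with
    | zero => intro a; simp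
    | succ u ih =>
      intro a
      rw [mul_add, pow_add, pow_mul, ih, mul_one]
      exact hpow a
  obtain ⟨u, hu⟩ : ∃ u, k * u ≡ 1 [MOD N] := by
    rcases Nat.lt_or_ge 1 N with hN1 | hN1
    · obtain ⟨u, hu⟩ := Nat.exists_mul_mod_eq_one_of_coprime hk hN1
      exact ⟨u, by rw [Nat.ModEq, hu.2, Nat.mod_eq_of_lt hN1]⟩
    · have : N = 1 := by omega
      subst this
      exact ⟨0, Nat.modEq_one⟩
  have h6 : (i : ℕ) * k * u ≡ i [MOD N] := by
    have := Nat.ModEq.mul_left (i : ℕ) hu
    rw [mul_one, ← mul_assoc] at this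
    exact this
  have h7 : ∀ {x y : ℕ}, x ≡ y [MOD N] → x ≤ y → ∀ a : R, a ^ (2 ^ y) = a ^ (2 ^ x) := by
    intro x y hxy hle a
    obtain ⟨c, hc⟩ := (Nat.modEq_iff_dvd' hle).mp hxy
    have : y = N * c + x := by omega
    rw [this, pow_add, pow_mul, h5]
  rw [h2]
  rcases le_total ((i : ℕ) * k * u) i with h8 | h8
  · rw [h7 h6 h8, h4]
  · rw [← h7 h6.symm h8, h4]

variable {U W : Type*} [AddCommGroup U] [AddCommGroup W] [Module (ZMod 2) U] [Module (ZMod 2) W]
    [Fintype U] [Fintype W] {s : U → W}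

/-- the hypotheses -/
structure Hyp (s : U → W) (n : ℕ) : Prop where
  q : IsQ s
  an : ∀ x, s x = 0 → x = 0
  n0 : n ≠ 0
  cardW : Nat.card W = 2 ^ n
  cardU : Nat.card U = Nat.card W ^ 2
  fib : ∀ w, w ≠ 0 → fib s w = 2 ^ n + 1

theorem Hyp.ntW {n : ℕ} (h : Hyp s n) : Nontrivial W := by
  have h1 : 1 < Nat.card W := by rw [h.cardW]; exact Nat.one_lt_two_pow h.n0
  exact Finite.one_lt_card_iff_nontrivial.mp h1

/-- self-adjoint idempotents are trivial -/
theorem Hyp.idem {n : ℕ} (h : Hyp s n) (ε : Module.End (ZMod 2) U) (he : ε * ε = ε)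
    (hs : ∀ x y, b s (ε x) y = b s x (ε y)) : ε = 0 ∨ ε = 1 := by
  have hG : ∀ χ : W →ₗ[ZMod 2] ZMod 2, χ ≠ 0 → G s χ = - Nat.card W := by
    intro χ hχ
    rw [G_eq_of_fib h.q.zero h.an h.fib hχ, h.cardW]; push_cast; ring
  have hc : IsCompl (LinearMap.range ε) (LinearMap.ker ε) := by
    constructor
    · rw [Submodule.disjoint_def]
      rintro _ ⟨x, rfl⟩ hx
      have : ε (ε x) = ε x := congrArg (fun f : Module.End (ZMod 2) U => f x) he
      rw [← this]; exact hx
    · rw [codisjoint_iff, eq_top_iff]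
      intro x _
      have h1 : x = ε x + (x - ε x) := by abel
      rw [h1]
      refine Submodule.add_mem_sup ⟨x, rfl⟩ ?_
      rw [LinearMap.mem_ker, map_sub]
      have : ε (ε x) = ε x := congrArg (fun f : Module.End (ZMod 2) U => f x) he
      rw [this, sub_self]
  have hb0 : ∀ x, b s x 0 = 0 := by
    intro x
    have h1 := h.q.add_right x 0 0
    rw [add_zero] at h1
    have h3 := add_self (b s x 0)
    rw [h3] at h1
    exact h1
  rcases compl h.q h.an hG h.ntW h.cardU (LinearMap.range ε) (LinearMap.ker ε) hc (by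
    rintro _ ⟨x, rfl⟩ y hy
    rw [hs, LinearMap.mem_ker.mp hy, hb0]) with h1 | h1
  · left
    exact LinearMap.range_eq_bot.mp h1
  · right
    ext x
    have h2 : x - ε x ∈ LinearMap.ker ε := by
      rw [LinearMap.mem_ker, map_sub]
      have : ε (ε x) = ε x := congrArg (fun f : Module.End (ZMod 2) U => f x) he
      rw [this, sub_self]
    rw [h1, Submodule.mem_bot, sub_eq_zero] at h2
    exact h2.symm

/-- an isometry of odd order is trivial or fixed point free -/
theorem Hyp.fpf {n : ℕ} (h : Hyp s n) (g : Module.End (ZMod 2) U) (hg : ∀ x, s (g x) = s x)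
    {M : ℕ} (hM : Odd M) (hgM : g ^ M = 1) : g = 1 ∨ ∀ x, g x = x → x = 0 := by
  have hbg : ∀ x y, b s (g x) (g y) = b s x y := by
    intro x y
    rw [b, b, ← map_add, hg, hg, hg]
  have hbgi : ∀ i x y, b s ((g ^ i) x) ((g ^ i) y) = b s x y := by
    intro i
    induction i with
    | zero => intro x y; rfl
    | succ i ih =>
      intro x y
      rw [pow_succ', Module.End.mul_apply, Module.End.mul_apply, hbg, ih]
  have hb0 : ∀ x, b s x 0 = 0 := by
    intro x
    have h1 := h.q.add_right x 0 0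
    rw [add_zero] at h1
    have h3 := add_self (b s x 0)
    rw [h3] at h1
    exact h1
  have hbsum_l : ∀ (S : Finset ℕ) (f : ℕ → U) (y : U), b s (∑ i ∈ S, f i) y = ∑ i ∈ S, b s (f i) y := by
    intro S f y
    induction S using Finset.induction_on with
    | empty => rw [Finset.sum_empty, Finset.sum_empty, b_comm]; exact hb0 y
    | insert i S hi ih => rw [Finset.sum_insert hi, Finset.sum_insert hi, h.q.add_left, ih]
  have hbsum_r : ∀ (S : Finset ℕ) (f : ℕ → U) (y : U), b s y (∑ i ∈ S, f i) = ∑ i ∈ S, b s y (f i) := by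
    intro S f y
    rw [b_comm, hbsum_l]
    exact Finset.sum_congr rfl fun i _ => b_comm s _ _
  set ε : Module.End (ZMod 2) U := ∑ i ∈ Finset.range M, g ^ i with hε
  have hgε : g * ε = ε := by
    have h1 : g * ε - ε = 0 := by
      have h2 := mul_geom_sum g M
      rw [sub_mul, one_mul, hgM, sub_self] at h2
      exact h2
    exact sub_eq_zero.mp h1
  have hgiε : ∀ i, g ^ i * ε = ε := by
    intro i
    induction i with
    | zero => rw [pow_zero, one_mul]
    | succ i ih => rw [pow_succ, mul_assoc, hgε, ih]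
  have hMone : ∀ x : Module.End (ZMod 2) U, (M : ℕ) • x = x := by
    intro x
    obtain ⟨k, hk⟩ := hM
    rw [hk, add_smul, one_smul, mul_smul, two_smul]
    have : k • x + k • x = 0 := by
      have h1 : x + x = 0 := by ext u; exact add_self (x u)
      rw [← smul_add, h1, smul_zero]
    rw [this, zero_add]
  have hidem : ε * ε = ε := by
    conv_lhs => rw [hε, Finset.sum_mul]
    rw [Finset.sum_congr rfl (fun i _ => hgiε i), Finset.sum_const, Finset.card_range]
    exact hMone ε
  have hadj : ∀ x y, b s (ε x) y = b s x (ε y) := by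
    intro x y
    have h1 : ∀ z, ε z = ∑ i ∈ Finset.range M, (g ^ i) z := by
      intro z; rw [hε, LinearMap.sum_apply]
    rw [h1, h1, hbsum_l, hbsum_r]
    -- reindex `i ↦ (M - i) % M`
    have h2 : ∀ i ∈ Finset.range M, b s ((g ^ i) x) y = b s x ((g ^ (M - i)) y) := by
      intro i hi
      have hi' := Finset.mem_range.mp hi
      have h3 : (g ^ i) ((g ^ (M - i)) y) = y := by
        rw [← Module.End.mul_apply, ← pow_add, Nat.add_sub_cancel' hi'.le, hgM]; rfl
      conv_lhs => rw [← h3]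
      rw [hbgi]
    rw [Finset.sum_congr rfl h2]
    have h3 : ∑ i ∈ Finset.range M, b s x ((g ^ (M - i)) y) = ∑ i ∈ Finset.range M, b s x ((g ^ (i + 1)) y) := by
      rw [← Finset.sum_range_reflect]
      refine Finset.sum_congr rfl fun i hi => ?_
      have hi' := Finset.mem_range.mp hi
      congr 3
      omega
    rw [h3]
    have h4 := Finset.sum_range_succ (fun i => b s x ((g ^ i) y)) M
    have h5 := Finset.sum_range_succ' (fun i => b s x ((g ^ i) y)) M
    rw [h4] at h5
    rw [hgM, pow_zero] at h5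
    exact (add_right_cancel h5).symm
  rcases h.idem ε hidem hadj with h1 | h1
  · right
    intro x hx
    have h2 : ∀ i, (g ^ i) x = x := by
      intro i
      induction i with
      | zero => rfl
      | succ i ih => rw [pow_succ, Module.End.mul_apply, hx, ih]
    have h3 : ε x = x := by
      rw [hε, LinearMap.sum_apply, Finset.sum_congr rfl (fun i _ => h2 i), Finset.sum_const, Finset.card_range]
      have h4 := congrArg (fun f : Module.End (ZMod 2) U => f x) (hMone 1)
      exact h4
    rw [← h3, h1]; rfl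
  · left
    rw [h1, mul_one] at hgε
    exact hgε

theorem aeval_pow_two_pow (l : Module.End (ZMod 2) U) (p : (ZMod 2)[X]) (N : ℕ) :
    (aeval l p) ^ (2 ^ N) = aeval (l ^ (2 ^ N)) p := by
  induction N with
  | zero => simp
  | succ N ih =>
    rw [pow_succ, pow_mul, ih, pow_mul, ← map_pow, ← ZMod.expand_card p, expand_aeval]

/-- a `t`-group preserving `s` is cyclic and its order divides `2 ^ n + 1` -/
theorem Hyp.card_dvd {n : ℕ} (h : Hyp s n) {t : ℕ} [ht' : Fact t.Prime] (ht : t ≠ 2)
    (P : Subgroup (Module.End (ZMod 2) U)ˣ) (hP : IsPGroup t P)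
    (hPs : ∀ g ∈ P, ∀ x, s ((g : Module.End (ZMod 2) U) x) = s x) :
    IsCyclic P ∧ Nat.card P ∣ 2 ^ n + 1 := by
  classical
  have hfE : Finite (Module.End (ZMod 2) U) :=
    Finite.of_injective (fun f => (f : U → U)) DFunLike.coe_injective
  have hfU : Finite (Module.End (ZMod 2) U)ˣ := inferInstance
  have hfP : Finite P := inferInstance
  -- fixed point freeness
  have hfpf : ∀ g ∈ P, g ≠ 1 → ∀ x : U, (g : Module.End (ZMod 2) U) x = x → x = 0 := by
    intro g hg hg1
    obtain ⟨j, hj⟩ := hP ⟨g, hg⟩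
    have hj' : g ^ t ^ j = 1 := congrArg Subtype.val hj
    have hj2 : (g : Module.End (ZMod 2) U) ^ t ^ j = 1 := by
      rw [← Units.val_pow_eq_pow_val, hj']; rfl
    rcases h.fpf (g : Module.End (ZMod 2) U) (hPs g hg)
      ((ht'.out.odd_of_ne_two ht).pow) hj2 with h1 | h1
    · exact absurd (Units.ext h1) hg1
    · exact h1
  have hsmul : ∀ (g : P) (x : U), g • x = ((g : (Module.End (ZMod 2) U)ˣ) : Module.End (ZMod 2) U) x :=
    fun _ _ => rfl
  have hfaith : FaithfulSMul P U := by
    constructor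
    intro g g' hgg
    apply Subtype.ext
    apply Units.ext
    ext x
    exact hgg x
  -- `P` is cyclic
  have hstab : ∀ a : U, a ≠ 0 → MulAction.stabilizer P a = ⊥ := by
    intro a ha
    rw [Subgroup.eq_bot_iff_forall]
    intro g hg
    by_contra hg1
    exact ha (hfpf g g.2 (fun h1 => hg1 (Subtype.ext h1)) a hg)
  obtain ⟨hcyc, -⟩ := S1160.result (P := P) (E := U) (p := t) (q := 2) ht hP Nat.prime_two
    (fun x => by rw [two_smul]; exact add_self x)
    (fun a b ha hb => by rw [hstab a ha, hstab b hb])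
  refine ⟨hcyc, ?_⟩
  -- the order of `P` divides `2 ^ n + 1`
  obtain ⟨w, hw⟩ := @exists_ne W h.ntW 0
  let act : MulAction P {x : U // s x = w} :=
    { smul := fun g x => ⟨g • (x : U), by rw [hsmul, hPs g g.2]; exact x.2⟩
      one_smul := fun x => Subtype.ext (one_smul P (x : U))
      mul_smul := fun g g' x => Subtype.ext (mul_smul g g' (x : U)) }
  have h1 : ∀ b : {x : U // s x = w}, MulAction.stabilizer P b = ⊥ := by
    intro b
    rw [Subgroup.eq_bot_iff_forall]
    intro g hg
    have h2 : g • (b : U) = b := congrArg Subtype.val hg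
    have h3 : (b : U) ≠ 0 := by
      intro h4
      apply hw
      rw [← b.2, h4, h.q.zero]
    have h4 : g ∈ MulAction.stabilizer P (b : U) := h2
    rw [hstab _ h3] at h4
    exact h4
  have h2 := Nat.card_congr (MulAction.selfEquivOrbitsQuotientProd h1)
  rw [Nat.card_prod] at h2
  have h3 := h.fib w hw
  rw [Quad.fib] at h3
  rw [← h3, h2]
  exact dvd_mul_left _ _

/-- **Main theorem.** -/
theorem Hyp.commute_of_norm {n : ℕ} (h : Hyp s n) {t : ℕ} [ht' : Fact t.Prime] (ht : t ≠ 2)
    (P : Subgroup (Module.End (ZMod 2) U)ˣ) (hP : IsPGroup t P)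
    (hPs : ∀ g ∈ P, ∀ x, s ((g : Module.End (ZMod 2) U) x) = s x)
    (v : (Module.End (ZMod 2) U)ˣ) (hv : ∀ g ∈ P, v * g * v⁻¹ ∈ P) {k : ℕ} (hvk : v ^ k = 1)
    (hk : k.Coprime (2 * n)) : ∀ g ∈ P, v * g = g * v := by
  classical
  have hfE : Finite (Module.End (ZMod 2) U) :=
    Finite.of_injective (fun f => (f : U → U)) DFunLike.coe_injective
  have hfU : Finite (Module.End (ZMod 2) U)ˣ := inferInstance
  have hfP : Finite P := inferInstance
  obtain ⟨hcyc, hdvd⟩ := h.card_dvd ht P hP hPs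
  obtain ⟨g₀, hg₀⟩ := hcyc.exists_generator
  set l : Module.End (ZMod 2) U := ((g₀ : (Module.End (ZMod 2) U)ˣ) : Module.End (ZMod 2) U) with hl
  have hg0pow : g₀ ^ (2 ^ n + 1) = 1 := by
    obtain ⟨c, hc⟩ := hdvd
    rw [hc, pow_mul, pow_card_eq_one', one_pow]
  have hlpow : l ^ (2 ^ n + 1) = 1 := by
    have h1 : ((g₀ ^ (2 ^ n + 1) : P) : (Module.End (ZMod 2) U)ˣ) = 1 := by rw [hg0pow]; rfl
    rw [hl, ← Units.val_pow_eq_pow_val]
    have h2 : ((g₀ : (Module.End (ZMod 2) U)ˣ)) ^ (2 ^ n + 1) = 1 := by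
      rw [← h1]; rfl
    rw [h2]; rfl
  have hl1 : l ^ (2 ^ n) * l = 1 := by rw [← pow_succ]; exact hlpow
  have hl1' : l * l ^ (2 ^ n) = 1 := by rw [← pow_succ']; exact hlpow
  have hl2n : l ^ (2 ^ (2 * n)) = l := by
    have h1 : l ^ (2 ^ (2 * n)) * l ^ (2 ^ n) = 1 := by
      have : 2 ^ (2 * n) + 2 ^ n = (2 ^ n + 1) * 2 ^ n := by
        rw [two_mul, pow_add]; ring
      rw [← pow_add, this, pow_mul, hlpow, one_pow]
    calc l ^ (2 ^ (2 * n)) = l ^ (2 ^ (2 * n)) * (l ^ (2 ^ n) * l) := by rw [hl1, mul_one]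
      _ = (l ^ (2 ^ (2 * n)) * l ^ (2 ^ n)) * l := by rw [mul_assoc]
      _ = l := by rw [h1, one_mul]
  -- self-adjointness
  have hb0 : ∀ x, b s x 0 = 0 := by
    intro x
    have h1 := h.q.add_right x 0 0
    rw [add_zero] at h1
    have h3 := add_self (b s x 0)
    rw [h3] at h1
    exact h1
  have hbl : ∀ x y, b s (l x) (l y) = b s x y := by
    intro x y
    rw [b, b, ← map_add, hPs g₀ g₀.2, hPs g₀ g₀.2, hPs g₀ g₀.2]
  have hadj1 : ∀ x y, b s (l x) y = b s x ((l ^ (2 ^ n)) y) := by
    intro x y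
    have h1 : l ((l ^ (2 ^ n)) y) = y := by rw [← Module.End.mul_apply, hl1']; rfl
    conv_lhs => rw [← h1]
    rw [hbl]
  have hadjp : ∀ (p : (ZMod 2)[X]) x y, b s ((aeval l p) x) y = b s x ((aeval (l ^ (2 ^ n)) p) y) := by
    intro p
    have hmono : ∀ i x y, b s ((l ^ i) x) y = b s x (((l ^ (2 ^ n)) ^ i) y) := by
      intro i
      induction i with
      | zero => intro x y; rfl
      | succ i ih =>
        intro x y
        rw [pow_succ, Module.End.mul_apply, ih, hadj1, pow_succ', Module.End.mul_apply]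
    induction p using Polynomial.induction_on' with
    | add p q hp hq =>
      intro x y
      rw [map_add, map_add, LinearMap.add_apply, LinearMap.add_apply, h.q.add_left, hp, hq, h.q.add_right]
    | monomial i a =>
      intro x y
      have ha : a = 0 ∨ a = 1 := by revert a; decide
      rcases ha with rfl | rfl
      · rw [Polynomial.monomial_zero_right, map_zero, map_zero, LinearMap.zero_apply, LinearMap.zero_apply,
          b_comm, hb0, hb0]
      · rw [Polynomial.aeval_monomial, Polynomial.aeval_monomial, map_one, one_mul, one_mul, hmono]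
  -- the ring
  let φ : (ZMod 2)[X] →ₐ[ZMod 2] Module.End (ZMod 2) U := aeval l
  let A := (ZMod 2)[X] ⧸ RingHom.ker φ
  let ψ : A →ₐ[ZMod 2] Module.End (ZMod 2) U := Ideal.kerLiftAlg φ
  have hψi : Function.Injective ψ := Ideal.kerLiftAlg_injective φ
  have hψ : ∀ p : (ZMod 2)[X], ψ (Ideal.Quotient.mk _ p) = aeval l p := fun _ => rfl
  have hfA : Finite A := Finite.of_injective ψ hψi
  have hntU : Nontrivial U := by
    have h1 : 1 < Nat.card U := by
      rw [h.cardU, h.cardW, ← pow_mul]; exact Nat.one_lt_two_pow (by have := h.n0; omega)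
    exact Finite.one_lt_card_iff_nontrivial.mp h1
  have hntA : Nontrivial A := by
    refine ⟨0, 1, ?_⟩
    intro h01
    have h1 := congrArg ψ h01
    rw [map_zero, map_one] at h1
    obtain ⟨u, hu⟩ := exists_ne (0 : U)
    exact hu (congrArg (fun f : Module.End (ZMod 2) U => f u) h1).symm
  have hApow : ∀ a : A, a ^ (2 ^ (2 * n)) = a := by
    intro a
    obtain ⟨p, rfl⟩ := Ideal.Quotient.mk_surjective a
    apply hψi
    rw [map_pow, hψ, aeval_pow_two_pow, hl2n]
  have hAid : ∀ a : A, a * a = a → a = 0 ∨ a = 1 := by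
    intro a ha
    obtain ⟨p, rfl⟩ := Ideal.Quotient.mk_surjective a
    have h1 := congrArg ψ ha
    rw [map_mul, hψ] at h1
    have h2 : (aeval l p) ^ (2 ^ n) = aeval l p := by
      have h3 : ∀ m : ℕ, m ≠ 0 → (aeval l p) ^ m = aeval l p := by
        intro m hm
        obtain ⟨m', rfl⟩ := Nat.exists_eq_succ_of_ne_zero hm
        clear hm
        induction m' with
        | zero => rw [pow_one]
        | succ m' ih => rw [Nat.succ_eq_add_one, pow_succ, ih, h1]
      exact h3 _ (by positivity)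
    rcases h.idem (aeval l p) h1 (fun x y => by rw [hadjp, ← aeval_pow_two_pow, h2]) with h3 | h3
    · left; apply hψi; rw [hψ, h3, map_zero]
    · right; apply hψi; rw [hψ, h3, map_one]
  -- conjugation by `v`
  obtain ⟨m, hm⟩ : ∃ m : ℕ, v * (g₀ : (Module.End (ZMod 2) U)ˣ) * v⁻¹ = (g₀ : (Module.End (ZMod 2) U)ˣ) ^ m := by
    have h1 := hg₀ ⟨v * g₀ * v⁻¹, hv g₀ g₀.2⟩
    rw [← mem_powers_iff_mem_zpowers] at h1
    obtain ⟨m, hm⟩ := h1
    exact ⟨m, (congrArg Subtype.val hm).symm⟩
  let vE : Module.End (ZMod 2) U := (v : Module.End (ZMod 2) U)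
  let vI : Module.End (ZMod 2) U := ((v⁻¹ : (Module.End (ZMod 2) U)ˣ) : Module.End (ZMod 2) U)
  have hvI : vI * vE = 1 := v.inv_mul
  have hvI' : vE * vI = 1 := v.mul_inv
  have hml : vE * l * vI = l ^ m := by
    have := congrArg Units.val hm
    rw [Units.val_mul, Units.val_mul, Units.val_pow_eq_pow_val] at this
    exact this
  have hconj : ∀ (p : (ZMod 2)[X]) (f f' : Module.End (ZMod 2) U), vE * f * vI = f' →
      vE * (aeval f p) * vI = aeval f' p := by
    intro p f f' hff
    have hpow : ∀ i, vE * f ^ i * vI = f' ^ i := by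
      intro i
      induction i with
      | zero => rw [pow_zero, mul_one, hvI', pow_zero]
      | succ i ih =>
        rw [pow_succ, pow_succ, ← ih, ← hff]
        calc vE * (f ^ i * f) * vI = vE * f ^ i * 1 * f * vI := by rw [mul_one]; simp only [mul_assoc]
          _ = _ := by rw [← hvI]; simp only [mul_assoc]
    induction p using Polynomial.induction_on' with
    | add p q hp hq => rw [map_add, map_add, mul_add, add_mul, hp, hq]
    | monomial i a =>
      have ha : a = 0 ∨ a = 1 := by revert a; decide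
      rcases ha with rfl | rfl
      · rw [Polynomial.monomial_zero_right, map_zero, map_zero, mul_zero, zero_mul]
      · rw [Polynomial.aeval_monomial, Polynomial.aeval_monomial, map_one, one_mul, one_mul, hpow]
  let θ : (ZMod 2)[X] →ₐ[ZMod 2] A := (Ideal.Quotient.mkₐ (ZMod 2) (RingHom.ker φ)).comp (aeval (X ^ m))
  have hθψ : ∀ p : (ZMod 2)[X], ψ (θ p) = vE * (aeval l p) * vI := by
    intro p
    have h1 : ψ (θ p) = aeval l (aeval (X ^ m : (ZMod 2)[X]) p) := rfl
    rw [h1, hconj p l _ hml, ← Polynomial.aeval_algHom_apply]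
    simp
  have hθ : ∀ p ∈ RingHom.ker φ, θ p = 0 := by
    intro p hp
    apply hψi
    have hp' : aeval l p = 0 := hp
    rw [hθψ, hp', mul_zero, zero_mul, map_zero]
  let σ : A →ₐ[ZMod 2] A := Ideal.Quotient.liftₐ (RingHom.ker φ) θ hθ
  have hσψ : ∀ a : A, ψ (σ a) = vE * ψ a * vI := by
    intro a
    obtain ⟨p, rfl⟩ := Ideal.Quotient.mk_surjective a
    exact hθψ p
  have hσk : ∀ a : A, (⇑σ)^[k] a = a := by
    intro a
    apply hψi
    have h1 : ∀ i, ψ ((⇑σ)^[i] a) = vE ^ i * ψ a * vI ^ i := by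
      intro i
      induction i with
      | zero => simp
      | succ i ih =>
        rw [Function.iterate_succ_apply', hσψ, ih, pow_succ', pow_succ]
        simp only [mul_assoc]
    have h2 : vE ^ k = 1 := by
      rw [← Units.val_pow_eq_pow_val, hvk]; rfl
    have h3 : vI ^ k = 1 := by
      rw [← Units.val_pow_eq_pow_val, inv_pow, hvk, inv_one]; rfl
    rw [h1, h2, h3, one_mul, mul_one]
  have hfinal := algHom_eq_id (N := 2 * n) (by have := h.n0; omega) hApow hAid σ hk hσk
    (Ideal.Quotient.mk _ X)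
  have h1 := congrArg ψ hfinal
  rw [hσψ, hψ, aeval_X] at h1
  have h2 : v * (g₀ : (Module.End (ZMod 2) U)ˣ) = g₀ * v := by
    apply Units.ext
    rw [Units.val_mul, Units.val_mul]
    calc vE * l = vE * l * (vI * vE) := by rw [hvI, mul_one]
      _ = (vE * l * vI) * vE := by simp only [mul_assoc]
      _ = l * vE := by rw [h1]
  intro g hg
  obtain ⟨i, hi⟩ := hg₀ ⟨g, hg⟩
  have hi' : (g₀ : (Module.End (ZMod 2) U)ˣ) ^ i = g := congrArg Subtype.val hi
  rw [← hi']
  exact (Commute.zpow_right h2 i)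

end Cfsg.Agent.H453.Quad
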